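import Groth.Prelude.Def_HRes
import Groth.Agent.HRes16.MapExactNat

/-!
# The constant sheaf isomorphisms `f⁻¹ M ≅ M` on big sites are compatible with identities and composition
-/

set_option autoImplicit false
set_option backward.isDefEq.respectTransparency false
set_option backward.defeqAttrib.useBackward true

universe u

open CategoryTheory CategoryTheory.Limits AlgebraicGeometry Opposite

namespace Groth.Agent.HRes16

variable (K : Precoverage Scheme.{u}) {S T T' : Scheme.{u}}

/-- `pullConst` is determined after the sheafification unit. -/
theorem toSheafify_pullConst_inv (f : T ⟶ S) (M : AddCommGrpCat.{u + 1}) :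
    toSheafify (QuotSh.J K T) ((Functor.const _).obj M) ≫ (HRes.pullConst K f M).inv.hom =
      Functor.whiskerLeft (Over.map f).op (toSheafify (QuotSh.J K S) ((Functor.const _).obj M)) :=
  (Over.map f).toSheafify_pullbackSheafificationCompatibility AddCommGrpCat.{u + 1}
    (QuotSh.J K T) (QuotSh.J K S) ((Functor.const _).obj M)

/-- Restricting along the identity does nothing to constant sheaves. -/
theorem pullConst_inv_id (M : AddCommGrpCat.{u + 1}) :
    (HRes.pullConst K (𝟙 S) M).inv ≫
      (K.toGrothendieck.overMapPullbackId AddCommGrpCat.{u + 1} S).hom.app _ = 𝟙 _ := by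
  refine Sheaf.hom_ext (sheafify_hom_ext _ _ _ (ObjectProperty.FullSubcategory.property _) ?_)
  ext U : 2
  have h := congr_app (toSheafify_pullConst_inv K (𝟙 S) M) U
  have hn := (toSheafify (QuotSh.J K S) ((Functor.const _).obj M)).naturality
    ((Over.mapId S).inv.app U.unop).op
  simp only [Functor.comp_obj, NatTrans.comp_app] at h
  simp only [ObjectProperty.FullSubcategory.comp_hom, ObjectProperty.FullSubcategory.id_hom, NatTrans.comp_app]
  erw [reassoc_of% h]
  exact hn.symm.trans (by simp only [Functor.const_obj_map, Category.id_comp]; exact (Category.comp_id _).symm)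

/-- Restricting along a composite restricts constant sheaves twice. -/
theorem pullConst_inv_comp (f : T ⟶ S) (g : T' ⟶ T) (M : AddCommGrpCat.{u + 1}) :
    (HRes.pullConst K g M).inv ≫
        (BigSite.pullBig K g AddCommGrpCat.{u + 1}).map (HRes.pullConst K f M).inv ≫
          (K.toGrothendieck.overMapPullbackComp AddCommGrpCat.{u + 1} g f).hom.app _ =
      (HRes.pullConst K (g ≫ f) M).inv := by
  refine Sheaf.hom_ext (sheafify_hom_ext _ _ _ (ObjectProperty.FullSubcategory.property _) ?_)
  ext U : 2
  have h := congr_app (toSheafify_pullConst_inv K g M) U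
  have h' := congr_app (toSheafify_pullConst_inv K f M) ((Over.map g).op.obj U)
  have h'' := congr_app (toSheafify_pullConst_inv K (g ≫ f) M) U
  simp only [Functor.comp_obj, NatTrans.comp_app] at h h' h''
  simp only [ObjectProperty.FullSubcategory.comp_hom, NatTrans.comp_app]
  erw [reassoc_of% h, reassoc_of% h', h'']
  exact ((toSheafify (QuotSh.J K S) ((Functor.const _).obj M)).naturality
    ((Over.mapComp g f).hom.app U.unop).op).symm.trans (by simp)

end Groth.Agent.HRes16
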